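import Mathlib.CategoryTheory.Monoidal.Tor
import Mathlib.CategoryTheory.Abelian.LeftDerived
import Mathlib.Algebra.Category.ModuleCat.Monoidal.Basic
import Mathlib.Algebra.Category.ModuleCat.Projective
import Mathlib.Algebra.Homology.ShortComplex.ModuleCat
import Mathlib.RingTheory.Filtration
import Mathlib.RingTheory.Flat.Basic
import Mathlib.RingTheory.TensorProduct.Basic
import Mathlib.LinearAlgebra.DirectSum.Finsupp
import Mathlib.LinearAlgebra.TensorProduct.Quotient

/-!
The transition maps on `Tor_i(M, R/I^n)` are eventually zero for `I`-power torsion modules.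
-/

set_option autoImplicit false
set_option linter.style.haveILetI false
set_option backward.isDefEq.respectTransparency false

universe u

open CategoryTheory TensorProduct

noncomputable section

namespace Groth.Agent.TorProZero

variable {R : Type u} [CommRing R]

section Zero

variable (M : Type u) [AddCommGroup M] [Module R M] {X Y : ModuleCat.{u} R}
  (P : ProjectiveResolution X) (Q : ProjectiveResolution Y) (φ : P.complex ⟶ Q.complex)

/-- A lift sends cycles of `M ⊗ P` to boundaries. -/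
def Kills (i : ℕ) : Prop :=
  ∀ z : M ⊗[R] P.complex.X (i + 1), (P.complex.d (i + 1) i).hom.lTensor M z = 0 →
    ∃ w : M ⊗[R] Q.complex.X (i + 2), (Q.complex.d (i + 2) (i + 1)).hom.lTensor M w = (φ.f (i + 1)).hom.lTensor M z

theorem tor_map_eq_zero_iff (f : X ⟶ Y) (comm : φ.f 0 ≫ Q.π.f 0 = P.π.f 0 ≫ f) (i : ℕ) :
    ((Tor (ModuleCat.{u} R) (i + 1)).obj (ModuleCat.of R M)).map f = 0 ↔ Kills M P Q φ i := by
  let F := (MonoidalCategory.tensoringLeft (ModuleCat.{u} R)).obj (ModuleCat.of R M)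
  let ψ := (F.mapHomologicalComplex (ComplexShape.down ℕ)).map φ
  let K := (F.mapHomologicalComplex (ComplexShape.down ℕ)).obj P.complex
  let L := (F.mapHomologicalComplex (ComplexShape.down ℕ)).obj Q.complex
  have h1 : ((Tor (ModuleCat.{u} R) (i + 1)).obj (ModuleCat.of R M)).map f = 0 ↔
      HomologicalComplex.homologyMap ψ (i + 1) = 0 := by
    have h := ProjectiveResolution.isoLeftDerivedObj_hom_naturality f P Q φ comm F (i + 1)
    constructor
    · intro h0
      rw [← cancel_epi (P.isoLeftDerivedObj F (i + 1)).hom, Limits.comp_zero]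
      exact h.symm.trans ((congrArg (fun z => z ≫ (Q.isoLeftDerivedObj F (i + 1)).hom) h0).trans Limits.zero_comp)
    · intro h0
      show (F.leftDerived (i + 1)).map f = 0
      rw [← cancel_mono (Q.isoLeftDerivedObj F (i + 1)).hom, Limits.zero_comp]
      exact h.trans ((congrArg (fun z => (P.isoLeftDerivedObj F (i + 1)).hom ≫ z) h0).trans Limits.comp_zero)
  rw [h1]
  constructor
  · intro h0 z hz
    let T : ModuleCat.of R R ⟶ K.X (i + 1) := ModuleCat.ofHom (LinearMap.toSpanSingleton R _ z)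
    have hT : T ≫ K.d (i + 1) i = 0 := by
      ext
      show (P.complex.d (i + 1) i).hom.lTensor M ((1 : R) • z) = 0
      rw [one_smul, hz]
    let c := K.liftCycles T i (by simp) hT
    have hc : (c ≫ HomologicalComplex.cyclesMap ψ (i + 1)) ≫ L.homologyπ (i + 1) = 0 := by
      rw [Category.assoc, ← HomologicalComplex.homologyπ_naturality, h0, Limits.comp_zero, Limits.comp_zero]
    have hex : Function.Exact (L.toCycles (i + 2) (i + 1)) (L.homologyπ (i + 1)) :=
      (ShortComplex.ShortExact.moduleCat_exact_iff_function_exact (ShortComplex.mk _ _ (L.toCycles_comp_homologyπ (i + 2) (i + 1)))).1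
        (ShortComplex.exact_of_g_is_cokernel _ (L.homologyIsCokernel (i + 2) (i + 1) (by simp)))
    obtain ⟨w, hw⟩ := (hex ((c ≫ HomologicalComplex.cyclesMap ψ (i + 1)) (1 : R))).1 (ConcreteCategory.congr_hom hc (1 : R))
    refine ⟨w, ?_⟩
    have h2 := congrArg (L.iCycles (i + 1)) hw
    rw [← ConcreteCategory.comp_apply, HomologicalComplex.toCycles_i] at h2
    refine h2.trans ?_
    rw [← ConcreteCategory.comp_apply, Category.assoc, HomologicalComplex.cyclesMap_i,
      HomologicalComplex.liftCycles_i_assoc]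
    show (φ.f (i + 1)).hom.lTensor M ((1 : R) • z) = _
    rw [one_smul]
  · intro hk
    rw [← cancel_epi (K.homologyπ (i + 1)), Limits.comp_zero, HomologicalComplex.homologyπ_naturality]
    ext c
    let z : K.X (i + 1) := K.iCycles (i + 1) c
    have hz : (P.complex.d (i + 1) i).hom.lTensor M z = 0 := ConcreteCategory.congr_hom (K.iCycles_d (i + 1) i) c
    obtain ⟨w, hw⟩ := hk z hz
    have he : L.toCycles (i + 2) (i + 1) w = HomologicalComplex.cyclesMap ψ (i + 1) c := by
      apply (ModuleCat.mono_iff_injective (L.iCycles (i + 1))).1 inferInstance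
      rw [← ConcreteCategory.comp_apply, ← ConcreteCategory.comp_apply, HomologicalComplex.toCycles_i,
        HomologicalComplex.cyclesMap_i]
      exact hw
    show L.homologyπ (i + 1) (HomologicalComplex.cyclesMap ψ (i + 1) c) = 0
    rw [← he, ← ConcreteCategory.comp_apply, HomologicalComplex.toCycles_comp_homologyπ]
    rfl

end Zero

section Chase

variable {M' F M : Type u} [AddCommGroup M'] [Module R M'] [AddCommGroup F] [Module R F] [AddCommGroup M]
  [Module R M] (ι : M' →ₗ[R] F) (π : F →ₗ[R] M) (hι : Function.Injective ι) (hπ : Function.Surjective π)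
  (hex : Function.Exact ι π) {X Y Z : ModuleCat.{u} R} (P : ProjectiveResolution X)
  (Q : ProjectiveResolution Y) (S : ProjectiveResolution Z) (φ : P.complex ⟶ Q.complex) (ψ : Q.complex ⟶ S.complex)

theorem flat_X' (P : ProjectiveResolution X) (n : ℕ) : Module.Flat R (P.complex.X n) := by
  haveI : Module.Projective R (P.complex.X n) := (IsProjective.iff_projective _).2 (P.projective n)
  infer_instance

theorem comm_lr {A B C D : Type u} [AddCommGroup A] [Module R A] [AddCommGroup B] [Module R B] [AddCommGroup C]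
    [Module R C] [AddCommGroup D] [Module R D] (f : A →ₗ[R] B) (g : C →ₗ[R] D) (z : A ⊗[R] C) :
    g.lTensor B (f.rTensor C z) = f.rTensor D (g.lTensor A z) := by
  rw [← LinearMap.comp_apply, ← LinearMap.comp_apply, LinearMap.lTensor_comp_rTensor, LinearMap.rTensor_comp_lTensor]

include hι hπ hex in
/-- Chase along a short exact sequence of coefficient modules, given vanishing one degree below. -/
theorem kills_chase (i : ℕ)
    (h₁ : ∀ g : M' ⊗[R] P.complex.X i, (∀ f : F ⊗[R] P.complex.X (i + 1),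
        (P.complex.d (i + 1) i).hom.lTensor F f = ι.rTensor _ g →
      ∃ h : M' ⊗[R] Q.complex.X (i + 1), (Q.complex.d (i + 1) i).hom.lTensor M' h = (φ.f i).hom.lTensor M' g))
    (h₂ : Kills F Q S ψ i) : Kills M P S (φ ≫ ψ) i := by
  intro z hz
  obtain ⟨f, rfl⟩ := LinearMap.rTensor_surjective (P.complex.X (i + 1)) hπ z
  rw [comm_lr] at hz
  obtain ⟨g, hg⟩ := (rTensor_exact (P.complex.X i) hex hπ _).1 hz
  obtain ⟨h, hh⟩ := h₁ g f hg.symm
  obtain ⟨w, hw⟩ := h₂ ((φ.f (i + 1)).hom.lTensor F f - ι.rTensor _ h) (by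
    rw [map_sub, comm_lr, hh, ← comm_lr, hg, ← LinearMap.comp_apply, ← LinearMap.comp_apply,
      ← LinearMap.lTensor_comp, ← LinearMap.lTensor_comp, ← ModuleCat.hom_comp, ← ModuleCat.hom_comp, φ.comm,
      sub_self])
  refine ⟨π.rTensor _ w, ?_⟩
  have hzero : ∀ {A : ModuleCat.{u} R} (v : M' ⊗[R] A), π.rTensor _ (ι.rTensor _ v) = 0 := fun v => by
    rw [← LinearMap.comp_apply, ← LinearMap.rTensor_comp, hex.linearMap_comp_eq_zero, LinearMap.rTensor_zero,
      LinearMap.zero_apply]
  rw [comm_lr, hw, map_sub, map_sub, comm_lr ι, hzero, sub_zero, ← comm_lr, ← comm_lr,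
    ← LinearMap.comp_apply, ← LinearMap.lTensor_comp, ← ModuleCat.hom_comp]
  rfl

end Chase

section Main

variable (I : Ideal R)

/-- `R/I^n` as an object. -/
abbrev lev (n : ℕ) : ModuleCat.{u} R := ModuleCat.of R (R ⧸ I ^ n)

/-- The transition map. -/
abbrev tr {a b : ℕ} (h : b ≤ a) : lev I a ⟶ lev I b :=
  ModuleCat.ofHom (Submodule.mapQ (I ^ a) (I ^ b) LinearMap.id (Ideal.pow_le_pow_right h))

theorem tr_comp {a b c : ℕ} (h : b ≤ a) (h' : c ≤ b) : tr I h ≫ tr I h' = tr I (h'.trans h) := by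
  ext x
  rfl

/-- Transition kills `Tor_{i+1}(M, -)` from level `n` down by `c`. -/
def Van (M : Type u) [AddCommGroup M] [Module R M] (i c : ℕ) : Prop :=
  ∀ a b : ℕ, ∀ h : b ≤ a, c ≤ a → b + c ≤ a →
    ((Tor (ModuleCat.{u} R) (i + 1)).obj (ModuleCat.of R M)).map (tr I h) = 0

/-- Degree zero input of the chase. -/
def Van₀ {M' F : Type u} [AddCommGroup M'] [Module R M'] [AddCommGroup F] [Module R F] (ι : M' →ₗ[R] F) (c : ℕ) : Prop :=
  ∀ a b : ℕ, ∀ h : b ≤ a, c ≤ a → b + c ≤ a → ∀ g : M' ⊗[R] (R ⧸ I ^ a), ι.rTensor _ g = 0 →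
    (tr I h).hom.lTensor M' g = 0

theorem lift_comm {X Y : ModuleCat.{u} R} (f : X ⟶ Y) (P : ProjectiveResolution X) (Q : ProjectiveResolution Y) :
    (ProjectiveResolution.lift f P Q).f 0 ≫ Q.π.f 0 = P.π.f 0 ≫ f := by
  exact ProjectiveResolution.lift_commutes_zero (f := f) P Q

theorem exact_aug {X : ModuleCat.{u} R} (P : ProjectiveResolution X) :
    Function.Exact (P.complex.d 1 0).hom (P.π.f 0).hom ∧ Function.Surjective (P.π.f 0).hom :=
  ⟨(ShortComplex.ShortExact.moduleCat_exact_iff_function_exact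
      (ShortComplex.mk (P.complex.d 1 0) (P.π.f 0) P.complex_d_comp_π_f_zero)).1
      (ShortComplex.exact_of_g_is_cokernel _ P.isColimitCokernelCofork),
    (ModuleCat.epi_iff_surjective (P.π.f 0)).1 inferInstance⟩

theorem van_step {M' F M : Type u} [AddCommGroup M'] [Module R M'] [AddCommGroup F] [Module R F]
    [AddCommGroup M] [Module R M] (ι : M' →ₗ[R] F) (π : F →ₗ[R] M) (hι : Function.Injective ι)
    (hπ : Function.Surjective π) (hex : Function.Exact ι π) (i c₁ c₂ : ℕ)
    (h₁ : (i = 0 ∧ Van₀ I ι c₁) ∨ ∃ j, i = j + 1 ∧ Van I M' j c₁) (h₂ : Van I F i c₂) :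
    Van I M i (c₁ + c₂) := by
  intro a b h hca hab
  let m := b + c₂
  have hm : m ≤ a := by omega
  let P := projectiveResolution (lev I a)
  let Q := projectiveResolution (lev I m)
  let S := projectiveResolution (lev I b)
  let φ := ProjectiveResolution.lift (tr I hm) P Q
  let ψ := ProjectiveResolution.lift (tr I (show b ≤ m by omega)) Q S
  have hφ := lift_comm (tr I hm) P Q
  have hψ := lift_comm (tr I (show b ≤ m by omega)) Q S
  refine (tor_map_eq_zero_iff M P S (φ ≫ ψ) (tr I h) ?_ i).2 ?_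
  · rw [HomologicalComplex.comp_f, Category.assoc, hψ, reassoc_of% hφ, tr_comp]
  refine kills_chase ι π hι hπ hex P Q S φ ψ i ?_ ((tor_map_eq_zero_iff F Q S ψ _ hψ i).1 (h₂ m b (by omega) (by omega) le_rfl))
  intro g f hf
  rcases h₁ with ⟨rfl, h₁⟩ | ⟨j, rfl, h₁⟩
  · have h3 : ι.rTensor _ ((P.π.f 0).hom.lTensor M' g) = 0 := by
      rw [← comm_lr, ← hf, ← LinearMap.comp_apply, ← LinearMap.lTensor_comp, (exact_aug P).1.linearMap_comp_eq_zero,
        LinearMap.lTensor_zero, LinearMap.zero_apply]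
    have h4 := h₁ a m hm (by omega) (by omega) _ h3
    refine (lTensor_exact M' (exact_aug Q).1 (exact_aug Q).2 _).1 ?_
    rw [← h4]
    show ((Q.π.f 0).hom.lTensor M' ∘ₗ (φ.f 0).hom.lTensor M') g = ((tr I hm).hom.lTensor M' ∘ₗ (P.π.f 0).hom.lTensor M') g
    rw [← LinearMap.lTensor_comp, ← LinearMap.lTensor_comp]
    have := congrArg ModuleCat.Hom.hom hφ
    rw [ModuleCat.hom_comp, ModuleCat.hom_comp] at this
    rw [this]
    rfl
  · have hcyc : (P.complex.d (j + 1) j).hom.lTensor M' g = 0 := by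
      haveI := flat_X' P j
      refine Module.Flat.rTensor_preserves_injective_linearMap (M := P.complex.X j) ι hι ?_
      rw [map_zero, ← comm_lr, ← hf, ← LinearMap.comp_apply, ← LinearMap.lTensor_comp, ← ModuleCat.hom_comp,
        HomologicalComplex.d_comp_d, ModuleCat.hom_zero, LinearMap.lTensor_zero, LinearMap.zero_apply]
    exact (tor_map_eq_zero_iff M' P Q φ _ hφ j).1 (h₁ a m hm (by omega) (by omega)) g hcyc

theorem van_flat (F : Type u) [AddCommGroup F] [Module R F] [Module.Flat R F] (i : ℕ) : Van I F i 0 := by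
  intro a b h _ _
  let P := projectiveResolution (lev I a)
  let S := projectiveResolution (lev I b)
  refine (tor_map_eq_zero_iff F P S _ _ (lift_comm _ P S) i).2 fun z hz => ?_
  obtain ⟨y, rfl⟩ := (Module.Flat.lTensor_exact F ((ShortComplex.ShortExact.moduleCat_exact_iff_function_exact _).1
    (P.exact_succ i)) z).1 hz
  refine ⟨((ProjectiveResolution.lift (tr I h) P S).f (i + 2)).hom.lTensor F y, ?_⟩
  rw [← LinearMap.comp_apply, ← LinearMap.comp_apply]
  rw [← LinearMap.lTensor_comp, ← LinearMap.lTensor_comp, ← ModuleCat.hom_comp, ← ModuleCat.hom_comp,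
    HomologicalComplex.Hom.comm]

theorem exists_tmul_one {N : Type u} [AddCommGroup N] [Module R N] (J : Ideal R) (g : N ⊗[R] (R ⧸ J)) :
    ∃ x : N, x ⊗ₜ[R] Submodule.Quotient.mk (p := J) (1 : R) = g := by
  induction g with
  | zero => exact ⟨0, zero_tmul ..⟩
  | add p q hp hq =>
    obtain ⟨x, rfl⟩ := hp
    obtain ⟨y, rfl⟩ := hq
    exact ⟨x + y, add_tmul ..⟩
  | tmul x r =>
    obtain ⟨r, rfl⟩ := Submodule.Quotient.mk_surjective J r
    refine ⟨r • x, ?_⟩
    rw [smul_tmul, ← Submodule.Quotient.mk_smul, smul_eq_mul, mul_one]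

theorem tmul_one_eq_zero_iff {N : Type u} [AddCommGroup N] [Module R N] (J : Ideal R) (x : N) :
    x ⊗ₜ[R] Submodule.Quotient.mk (p := J) (1 : R) = 0 ↔ x ∈ J • (⊤ : Submodule R N) := by
  rw [← (TensorProduct.tensorQuotEquivQuotSMul N J).map_eq_zero_iff, ← Submodule.Quotient.mk_eq_zero]
  show TensorProduct.quotTensorEquivQuotSMul N J (Ideal.Quotient.mk J 1 ⊗ₜ[R] x) = 0 ↔ _
  rw [TensorProduct.quotTensorEquivQuotSMul_mk_tmul, one_smul]

theorem van₀_finite [IsNoetherianRing R] {F : Type u} [AddCommGroup F] [Module R F] [Module.Finite R F]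
    (N : Submodule R F) : ∃ c, Van₀ I N.subtype c := by
  obtain ⟨k, hk⟩ := Ideal.exists_pow_inf_eq_pow_smul (M := F) I N
  refine ⟨k, fun a b h hka hab g hg => ?_⟩
  obtain ⟨x, rfl⟩ := exists_tmul_one (I ^ a) g
  have hx : (x : F) ∈ I ^ a • (⊤ : Submodule R F) := (tmul_one_eq_zero_iff _ _).1 hg
  have hx2 : (x : F) ∈ I ^ (a - k) • N := by
    have h5 : (x : F) ∈ I ^ a • (⊤ : Submodule R F) ⊓ N := ⟨hx, x.2⟩
    rw [hk a hka] at h5
    exact Submodule.smul_mono le_rfl inf_le_right h5
  show (tr I h).hom.lTensor N (x ⊗ₜ[R] Submodule.Quotient.mk (1 : R)) = 0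
  have hx3 : x ∈ I ^ b • (⊤ : Submodule R N) :=
    Submodule.smul_mono (Ideal.pow_le_pow_right (by omega : b ≤ a - k)) le_rfl (Submodule.mem_smul_top_iff _ N x |>.2 hx2)
  exact (tmul_one_eq_zero_iff (I ^ b) x).2 hx3

theorem exists_van_finite [IsNoetherianRing R] : ∀ (i : ℕ) (M : Type u) [AddCommGroup M] [Module R M]
    [Module.Finite R M], ∃ c, Van I M i c := by
  intro i
  induction i with
  | zero =>
    intro M _ _ _
    obtain ⟨k, g, hg⟩ := Module.Finite.exists_fin' R M
    obtain ⟨c, hc⟩ := van₀_finite I (LinearMap.ker g)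
    exact ⟨c + 0, van_step I (LinearMap.ker g).subtype g (Submodule.injective_subtype _) hg
      (LinearMap.exact_subtype_ker_map g) 0 c 0 (.inl ⟨rfl, hc⟩) (van_flat I (Fin k → R) 0)⟩
  | succ i ih =>
    intro M _ _ _
    obtain ⟨k, g, hg⟩ := Module.Finite.exists_fin' R M
    obtain ⟨c, hc⟩ := ih (LinearMap.ker g)
    exact ⟨c + 0, van_step I (LinearMap.ker g).subtype g (Submodule.injective_subtype _) hg
      (LinearMap.exact_subtype_ker_map g) (i + 1) c 0 (.inr ⟨i, rfl, hc⟩) (van_flat I (Fin k → R) (i + 1))⟩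

theorem van_finsupp (X : Type u) [AddCommGroup X] [Module R X] (i c : ℕ) (h : Van I X i c) (ι : Type u) :
    Van I (ι →₀ X) i c := by
  intro a b hb hca hab
  let P := projectiveResolution (lev I a)
  let S := projectiveResolution (lev I b)
  let φ := ProjectiveResolution.lift (tr I hb) P S
  refine (tor_map_eq_zero_iff (ι →₀ X) P S φ _ (lift_comm _ P S) i).2 ?_
  have h0 := (tor_map_eq_zero_iff X P S φ _ (lift_comm _ P S) i).1 (h a b hb hca hab)
  classical
  have key : ∀ (A B : ModuleCat.{u} R) (f : A ⟶ B) (z : (ι →₀ X) ⊗[R] A) (j : ι),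
      TensorProduct.finsuppLeft R R X B ι (f.hom.lTensor (ι →₀ X) z) j =
        f.hom.lTensor X (TensorProduct.finsuppLeft R R X A ι z j) := by
    intro A B f z j
    induction z with
    | zero => simp
    | add p q hp hq => simp [hp, hq]
    | tmul x y => simp [TensorProduct.finsuppLeft_apply_tmul_apply]
  intro z hz
  let ζ := TensorProduct.finsuppLeft R R X (P.complex.X (i + 1)) ι z
  have hζ : ∀ j, (P.complex.d (i + 1) i).hom.lTensor X (ζ j) = 0 := fun j => by
    rw [← key, hz, map_zero]; rfl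
  choose w hw using fun j => h0 (ζ j) (hζ j)
  let ω : ι →₀ X ⊗[R] S.complex.X (i + 2) := ∑ j ∈ ζ.support, Finsupp.single j (w j)
  refine ⟨(TensorProduct.finsuppLeft R R X _ ι).symm ω, ?_⟩
  apply (TensorProduct.finsuppLeft R R X (S.complex.X (i + 1)) ι).injective
  ext j
  rw [key, key, LinearEquiv.apply_symm_apply]
  by_cases hj : j ∈ ζ.support
  · rw [show ω j = w j by simp [ω, Finsupp.finsetSum_apply, Finsupp.single_apply, hj]]
    exact hw j
  · rw [show ω j = 0 by simp [ω, Finsupp.finsetSum_apply, Finsupp.single_apply, hj], map_zero]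
    rw [show TensorProduct.finsuppLeft R R X _ ι z j = 0 from Finsupp.notMem_support_iff.1 hj, map_zero]

theorem exists_cover (m : ℕ) (M : Type u) [AddCommGroup M] [Module R M]
    (hM : ∀ r ∈ I ^ m, ∀ x : M, r • x = 0) :
    ∃ π : (M →₀ R ⧸ I ^ m) →ₗ[R] M, Function.Surjective π ∧
      ∀ r ∈ I ^ m, ∀ v : M →₀ R ⧸ I ^ m, r • v = 0 := by
  let q : M → ((R ⧸ I ^ m) →ₗ[R] M) := fun x => Submodule.liftQ (I ^ m) (LinearMap.toSpanSingleton R M x)
    fun r hr => hM r hr x
  refine ⟨Finsupp.lsum R q, fun x => ⟨Finsupp.single x (Submodule.Quotient.mk 1), ?_⟩, fun r hr v => ?_⟩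
  · rw [Finsupp.lsum_single]
    show (1 : R) • x = x
    exact one_smul R x
  ext j
  obtain ⟨y, hy⟩ := Submodule.Quotient.mk_surjective (I ^ m) (v j)
  rw [Finsupp.smul_apply, ← hy, ← Submodule.Quotient.mk_smul, Finsupp.zero_apply, Submodule.Quotient.mk_eq_zero]
  exact Ideal.mul_mem_right _ _ hr

theorem exists_van_killed [IsNoetherianRing R] (m : ℕ) : ∀ (i : ℕ), ∃ c : ℕ, ∀ (M : Type u) [AddCommGroup M]
    [Module R M], (∀ r ∈ I ^ m, ∀ x : M, r • x = (0 : M)) → Van I M i c := by
  intro i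
  induction i with
  | zero =>
    obtain ⟨c, hc⟩ := exists_van_finite I 0 (R ⧸ I ^ m)
    refine ⟨m + c, fun M _ _ hM => ?_⟩
    obtain ⟨π, hπ, hF⟩ := exists_cover I m M hM
    refine van_step (M' := LinearMap.ker π) I (LinearMap.ker π).subtype π (Submodule.injective_subtype _) hπ
      (LinearMap.exact_subtype_ker_map π) 0 m c (.inl ⟨rfl, ?_⟩) (van_finsupp I _ 0 c hc M)
    intro a b h hma _ g hg
    obtain ⟨x, rfl⟩ := exists_tmul_one (N := ↥(LinearMap.ker π)) (I ^ a) g
    have hx : (x : M →₀ R ⧸ I ^ m) ∈ I ^ a • (⊤ : Submodule R (M →₀ R ⧸ I ^ m)) := (tmul_one_eq_zero_iff _ _).1 hg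
    have hx0 : x = 0 := Subtype.ext <| by
      have : I ^ a • (⊤ : Submodule R (M →₀ R ⧸ I ^ m)) = ⊥ := by
        rw [eq_bot_iff, Submodule.smul_le]
        exact fun r hr v _ => Submodule.mem_bot R |>.2 (hF r (Ideal.pow_le_pow_right hma hr) v)
      rw [this] at hx
      exact hx
    rw [hx0, zero_tmul, map_zero]
  | succ i ih =>
    obtain ⟨c₁, hc₁⟩ := ih
    obtain ⟨c, hc⟩ := exists_van_finite I (i + 1) (R ⧸ I ^ m)
    refine ⟨c₁ + c, fun M _ _ hM => ?_⟩
    obtain ⟨π, hπ, hF⟩ := exists_cover I m M hM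
    exact van_step (M' := LinearMap.ker π) I (LinearMap.ker π).subtype π (Submodule.injective_subtype _) hπ
      (LinearMap.exact_subtype_ker_map π) (i + 1) c₁ c
      (.inr ⟨i, rfl, hc₁ _ fun r hr x => Subtype.ext ((Submodule.coe_smul r x).trans (hF r hr x.1))⟩) (van_finsupp I _ (i + 1) c hc M)

end Main

end Groth.Agent.TorProZero
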